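import Groth.Agent.GrpLociLib.Basic
import Groth.Agent.FFDescLib.EtaleGraph

/-!
Properties of a homomorphism read off on its kernel.
-/

set_option autoImplicit false
set_option backward.isDefEq.respectTransparency false

noncomputable section

universe u

open CategoryTheory CategoryTheory.Limits MonoidalCategory CartesianMonoidalCategory AlgebraicGeometry
open scoped MonObj

namespace Groth.Agent.KernelProp

theorem isPullback_of_lift {S : Scheme.{u}} {G H N T : Over S} [GrpObj G] [GrpObj H] (f : G ⟶ H) [IsMonHom f]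
    {i : N ⟶ G} (hi : AlgGrp.IsKernel i f) (e : T ⟶ H) (x : T ⟶ G) (hx : x ≫ f = e) :
    IsPullback (fst T N) ((fst T N ≫ x) * (snd T N ≫ i)) e f := by
  have hiw : i ≫ f = 1 := by rw [hi.w, Hom.one_def]
  have mulf : ∀ {Z : Over S} (a b : Z ⟶ G), (a * b) ≫ f = (a ≫ f) * (b ≫ f) := fun a b => map_mul (IsMonHom.monoidHom f _) a b
  refine ⟨⟨?_⟩, ⟨PullbackCone.IsLimit.mk _
    (fun s => CartesianMonoidalCategory.lift s.fst (hi.lift ((s.fst ≫ x)⁻¹ * s.snd) (toUnit _) ?_)) ?_ ?_ ?_⟩⟩
  · rw [mulf, Category.assoc, Category.assoc, hx, hiw, MonObj.comp_one, _root_.mul_one]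
  · rw [mulf, show (s.fst ≫ x)⁻¹ ≫ f = ((s.fst ≫ x) ≫ f)⁻¹ from GrpObj.inv_comp _ _,
      Category.assoc, hx, s.condition, inv_mul_cancel, Hom.one_def]
  · intro s; simp
  · intro s
    rw [MonObj.comp_mul, lift_fst_assoc, lift_snd_assoc, hi.lift_fst, mul_inv_cancel_left]
  · intro s m h1 h2
    refine CartesianMonoidalCategory.hom_ext _ _ (by simpa using h1) (hi.hom_ext ?_ (toUnit_unique _ _))
    rw [lift_snd, hi.lift_fst, ← h2, MonObj.comp_mul, ← h1]
    simp only [Category.assoc, inv_mul_cancel_left]

variable {S : Scheme.{u}} {G H K : Over S} [GrpObj G] [GrpObj H] (u : G ⟶ H) [IsMonHom u] {i : K ⟶ G}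
  (hK : AlgGrp.IsKernel i u)

include hK

theorem prop_kernel (P : MorphismProperty Scheme.{u}) [P.IsStableUnderBaseChange] (h : P u.left) : P K.hom := by
  have e : (toUnit K).left = K.hom := Over.toUnit_left
  exact e ▸ MorphismProperty.of_isPullback (hK.map (Over.forget S)) h

/-- The self product of a homomorphism is a base change of its kernel. -/
theorem isPullback_self : IsPullback (fst G K).left ((fst G K ≫ 𝟙 G) * (snd G K ≫ i)).left u.left u.left :=
  (isPullback_of_lift u hK u (𝟙 G) (Category.id_comp u)).map (Over.forget S)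

theorem unramified_of_kernel [LocallyOfFiniteType u.left] (h : FormallyUnramified K.hom) :
    FormallyUnramified u.left := by
  have sq := isPullback_self u hK
  haveI : LocallyOfFiniteType (pullback.fst u.left u.left) := inferInstance
  haveI : FormallyUnramified (pullback.fst u.left u.left) := by
    rw [← sq.isoPullback_inv_fst]
    exact (MorphismProperty.cancel_left_of_respectsIso @FormallyUnramified _ _).mpr
      (MorphismProperty.pullback_fst (P := @FormallyUnramified) _ _ h)
  haveI : IsOpenImmersion (pullback.diagonal u.left) :=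
    FFDescLib.isOpenImmersion_of_section (pullback.fst u.left u.left) _ (pullback.diagonal_fst u.left)
  infer_instance

theorem lqf_of_kernel [LocallyOfFiniteType u.left] (h : LocallyQuasiFinite K.hom) :
    LocallyQuasiFinite u.left := by
  have sq := isPullback_self u hK
  haveI : LocallyQuasiFinite (fst G K).left := MorphismProperty.pullback_fst (P := @LocallyQuasiFinite) _ _ h
  rw [← Scheme.Hom.quasiFiniteLocus_eq_top_iff, eq_top_iff]
  rintro x -
  obtain ⟨z, hz, -⟩ := Scheme.exists_preimage_of_isPullback sq.flip x x rfl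
  show u.left.QuasiFiniteAt x
  rw [← hz]
  exact (RichLib.QFLocus.quasiFiniteAt_iff_of_isPullback sq.flip z).mp ((fst G K).left.quasiFiniteAt z)

omit hK in
/-- A group scheme with open unit section is unramified. -/
theorem unramified_of_unit (M : Over S) [GrpObj M] (h : IsOpenImmersion η[M].left) : FormallyUnramified M.hom := by
  let d : M ⊗ M ⟶ M := fst M M * (snd M M)⁻¹
  have e1 : lift (𝟙 M) (𝟙 M) ≫ d = toUnit M ≫ η[M] := by simp [d, MonObj.comp_mul, GrpObj.comp_inv, Hom.one_def]
  have hsq : IsPullback (lift (𝟙 M) (𝟙 M)) (toUnit M) d η[M] := by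
    refine ⟨⟨e1⟩, ⟨PullbackCone.IsLimit.mk _
      (fun s => s.fst ≫ fst M M) (fun s => ?_) (fun s => toUnit_unique _ _) (fun s m h _ => ?_)⟩⟩
    · have h := s.condition
      simp only [d, MonObj.comp_mul, GrpObj.comp_inv] at h
      rw [show s.snd ≫ η[M] = (1 : s.pt ⟶ M) by rw [Hom.one_def]; exact congrArg (· ≫ η[M]) (toUnit_unique _ _),
        mul_inv_eq_one] at h
      exact CartesianMonoidalCategory.hom_ext _ _ (by simp) (by simp [h])
    · rw [← h]; simp
  haveI : IsOpenImmersion (pullback.diagonal M.hom) :=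
    haveI : IsOpenImmersion (lift (𝟙 M) (𝟙 M)).left :=
      MorphismProperty.of_isPullback (hsq.map (Over.forget S)).flip h
    (show (lift (𝟙 M) (𝟙 M)).left = pullback.diagonal M.hom from pullback.hom_ext (by simp) (by simp)) ▸ inferInstance
  infer_instance

omit hK in
theorem lqf_of_discrete {X Y : Scheme.{u}} (f : X ⟶ Y) [LocallyOfFiniteType f]
    (h : ∀ y : Y, DiscreteTopology ↥(f.base ⁻¹' {y})) : LocallyQuasiFinite f := by
  rw [← Scheme.Hom.quasiFiniteLocus_eq_top_iff, eq_top_iff]
  rintro x -
  show f.QuasiFiniteAt x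
  rw [Scheme.Hom.quasiFiniteAt_iff_isOpen_singleton_asFiber, ← (f.fiberHomeo (f x)).isOpen_image]
  haveI := h (f x)
  exact isOpen_discrete _

end Groth.Agent.KernelProp
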